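import Groth.Agent.Sga3.H962.DescQuot
import Groth.Agent.Localalg.GrpSchComp2

/-!
# Existence of `G/H` over a field from `G ⟶ B` with kernel `M` and `M/H` affine
-/

set_option autoImplicit false
universe v u
open CategoryTheory MonoidalCategory CartesianMonoidalCategory MonObj GrpObj AlgebraicGeometry Limits
open Groth.Agent.Sga3.H962.Fpqc

namespace Groth.Agent.Sga3.H962.DescField

variable {k : Type u} [Field k]

/-- The kernel of a homomorphism of group schemes over a field is a closed immersion. -/
theorem isClosedImmersion_of_kernel {M G B : Over (Spec (CommRingCat.of k))} [GrpObj B] (m : M ⟶ G) (b : G ⟶ B)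
    (hm : AlgGrp.IsKernel m b) : IsClosedImmersion m.left := by
  have h1 : IsSeparated B.hom := Groth.Agent.Localalg.GrpSchComp2.isSeparated_hom B
  have h2 : IsClosedImmersion η[B].left := by
    have : IsClosedImmersion (η[B].left ≫ B.hom) := by
      rw [Over.w]
      exact inferInstanceAs (IsClosedImmersion (𝟙 (Spec (CommRingCat.of k))))
    exact IsClosedImmersion.of_comp η[B].left B.hom
  exact MorphismProperty.of_isPullback (P := @IsClosedImmersion) (hm.map (Over.forget _)).flip h2

theorem surjective_hom (M : Over (Spec (CommRingCat.of k))) [MonObj M] : Surjective M.hom := by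
  refine ⟨fun s => ⟨η[M].left s, ?_⟩⟩
  exact Subsingleton.elim (α := Spec (CommRingCat.of k)) _ _

/-- `k` a field; `b : G ⟶ B` faithfully flat quasi-compact with kernel `M`, `p : M ⟶ P` faithfully flat
quasi-compact with kernel `H`, `P` affine, `H` normal in `G`: then `G/H` exists. -/
theorem exists_quot_of_kernel {G B M H P : Over (Spec (CommRingCat.of k))} [GrpObj G] [GrpObj B] [GrpObj M] [GrpObj H]
    [GrpObj P] [QuasiCompact G.hom] (b : G ⟶ B) [IsMonHom b] [Surjective b.left] [Flat b.left] [QuasiCompact b.left]
    (m : M ⟶ G) [IsMonHom m] (hm : AlgGrp.IsKernel m b) (j : H ⟶ M) [IsMonHom j] (p : M ⟶ P) [IsMonHom p]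
    [Surjective p.left] [Flat p.left] [QuasiCompact p.left] (hj : AlgGrp.IsKernel j p) [IsAffine P.left]
    (hN : AlgGrp.IsNormalHom (j ≫ m)) :
    ∃ (Q : Over (Spec (CommRingCat.of k))) (_ : GrpObj Q) (q : G ⟶ Q), IsMonHom q ∧ Surjective q.left ∧
      Flat q.left ∧ QuasiCompact q.left ∧ AlgGrp.IsKernel (j ≫ m) q := by
  have h1 : IsClosedImmersion m.left := isClosedImmersion_of_kernel m b hm
  have h2 : QuasiCompact M.hom := by rw [← Over.w m]; infer_instance
  have h3 : Surjective M.hom := surjective_hom M
  have h4 : IsAffineHom P.hom := inferInstance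
  exact DescQuot.exists_quot_of_kernel j hm hj hN

end Groth.Agent.Sga3.H962.DescField
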