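import Groth.Agent.S1133
import Groth.Agent.Etbase.FpqcDescent
import Mathlib.CategoryTheory.Monoidal.Cartesian.Over

/-!
# Effectivity of fpqc descent data for affine morphisms, in `Over S` and on points

`p : X ⟶ Y` flat, surjective, quasi-compact in `Over S`; `e : E ⟶ X` affine; transition maps on points.
-/

set_option autoImplicit false
universe u
open CategoryTheory AlgebraicGeometry Limits

namespace Groth.Agent.Sga3.H962.DescDD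

variable {S : Scheme.{u}}

/-- A descent datum on `e : E ⟶ X` relative to `p : X ⟶ Y`, on points in `Over S`. -/
structure PtDD {E X Y : Over S} (p : X ⟶ Y) (e : E ⟶ X) where
  /-- transition maps: the point `v` over `x₀` is sent to a point over `x₁` -/
  φ : ∀ {T : Over S} (v : T ⟶ E) (x₁ : T ⟶ X), (v ≫ e) ≫ p = x₁ ≫ p → (T ⟶ E)
  φ_e : ∀ {T : Over S} (v : T ⟶ E) (x₁ : T ⟶ X) (h : (v ≫ e) ≫ p = x₁ ≫ p), φ v x₁ h ≫ e = x₁
  φ_natural : ∀ {T T' : Over S} (g : T' ⟶ T) (v : T ⟶ E) (x₁ : T ⟶ X) (h : (v ≫ e) ≫ p = x₁ ≫ p)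
    (h' : ((g ≫ v) ≫ e) ≫ p = (g ≫ x₁) ≫ p), φ (g ≫ v) (g ≫ x₁) h' = g ≫ φ v x₁ h
  φ_self : ∀ {T : Over S} (v : T ⟶ E), φ v (v ≫ e) rfl = v
  φ_comp : ∀ {T : Over S} (v : T ⟶ E) (x₁ x₂ : T ⟶ X) (h : (v ≫ e) ≫ p = x₁ ≫ p)
    (h₂ : (φ v x₁ h ≫ e) ≫ p = x₂ ≫ p) (h₃ : (v ≫ e) ≫ p = x₂ ≫ p), φ (φ v x₁ h) x₂ h₂ = φ v x₂ h₃

namespace PtDD

variable {E X Y : Over S} {p : X ⟶ Y} {e : E ⟶ X} (D : PtDD p e)

theorem congr_φ {T : Over S} {v v' : T ⟶ E} {x x' : T ⟶ X} (hv : v = v') (hx : x = x')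
    (h : (v ≫ e) ≫ p = x ≫ p) (h' : (v' ≫ e) ≫ p = x' ≫ p) : D.φ v x h = D.φ v' x' h' := by
  subst hv; subst hx; rfl

/-- a scheme over `X.left`, as an object over `S` -/
abbrev ov {T : Scheme.{u}} (x : T ⟶ X.left) : Over S := Over.mk (x ≫ X.hom)

theorem hom_eq {T : Scheme.{u}} (x₀ x₁ : T ⟶ X.left) (h : x₀ ≫ p.left = x₁ ≫ p.left) : x₀ ≫ X.hom = x₁ ≫ X.hom := by
  rw [← Over.w p, ← Category.assoc, ← Category.assoc, h]

/-- the point of `E` defined by a lift -/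
def vpt {T : Scheme.{u}} (x : T ⟶ X.left) (v : Desc.Lifts (Over.mk e.left) x) (t : T ⟶ S) (ht : x ≫ X.hom = t) :
    (Over.mk t : Over S) ⟶ E :=
  Over.homMk v.1 (by
    change v.1 ≫ E.hom = t
    rw [← Over.w e, ← Category.assoc, ← ht]
    exact congrArg (· ≫ X.hom) v.2)

/-- the transition map on lifts -/
def tr {T : Scheme.{u}} (x₀ x₁ : T ⟶ X.left) (h : x₀ ≫ p.left = x₁ ≫ p.left) (v : Desc.Lifts (Over.mk e.left) x₀) :
    Desc.Lifts (Over.mk e.left) x₁ :=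
  ⟨(D.φ (vpt x₀ v (x₀ ≫ X.hom) rfl) (Over.homMk x₁ (hom_eq x₀ x₁ h).symm : (Over.mk (x₀ ≫ X.hom) : Over S) ⟶ X) (by
      ext1
      change (v.1 ≫ e.left) ≫ p.left = x₁ ≫ p.left
      rw [← h]
      exact congrArg (· ≫ p.left) v.2)).left,
    congrArg (fun z => Over.Hom.left z) (D.φ_e (vpt x₀ v (x₀ ≫ X.hom) rfl)
      (Over.homMk x₁ (hom_eq x₀ x₁ h).symm : (Over.mk (x₀ ≫ X.hom) : Over S) ⟶ X) _)⟩

/-- `tr` computed by any structure morphism -/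
theorem tr_val {T : Over S} (x₀ x₁ : T.left ⟶ X.left) (h : x₀ ≫ p.left = x₁ ≫ p.left)
    (v : Desc.Lifts (Over.mk e.left) x₀) (v' : T ⟶ E) (x₁' : T ⟶ X) (hv : v'.left = v.1) (hx : x₁'.left = x₁)
    (h' : (v' ≫ e) ≫ p = x₁' ≫ p) : (D.tr x₀ x₁ h v).1 = (D.φ v' x₁' h').left := by
  have ht : x₀ ≫ X.hom = T.hom := by
    rw [← Over.w v', hv, ← Over.w e, ← Category.assoc]
    exact congrArg (· ≫ X.hom) v.2.symm
  let T₀ : Over S := Over.mk (x₀ ≫ X.hom)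
  let w : T₀ ⟶ E := vpt x₀ v (x₀ ≫ X.hom) rfl
  let y : T₀ ⟶ X := Over.homMk x₁ (hom_eq x₀ x₁ h).symm
  have hw : w ≫ e = (Over.homMk x₀ rfl : T₀ ⟶ X) := by ext1; exact v.2
  have h1 : (w ≫ e) ≫ p = y ≫ p := by
    rw [hw]; ext1; exact h
  let g : T ⟶ T₀ := Over.homMk (𝟙 T.left) ((Category.id_comp _).trans ht)
  have e1 : g ≫ w = v' := by
    ext1
    exact (Category.id_comp _).trans hv.symm
  have e2 : g ≫ y = x₁' := by
    ext1
    exact (Category.id_comp _).trans hx.symm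
  have h2 : ((g ≫ w) ≫ e) ≫ p = (g ≫ y) ≫ p := by rw [e1, e2, h']
  have e3 := D.φ_natural g w y h1 h2
  rw [D.congr_φ e1.symm e2.symm h' h2, e3]
  exact (Category.id_comp _).symm

/-- The associated descent datum (points form over schemes). -/
def toSchDD : Desc.SchDD p.left where
  obj := Over.mk e.left
  φ T x₀ x₁ h :=
    { toFun := D.tr x₀ x₁ h
      invFun := D.tr x₁ x₀ h.symm
      left_inv := fun v => by
        apply Subtype.ext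
        let T' : Over S := Over.mk (x₀ ≫ X.hom)
        let v' : T' ⟶ E := vpt x₀ v (x₀ ≫ X.hom) rfl
        let x₁' : T' ⟶ X := Over.homMk x₁ (hom_eq x₀ x₁ h).symm
        have hv' : v' ≫ e = (Over.homMk x₀ rfl : T' ⟶ X) := by ext1; exact v.2
        have h1 : (v' ≫ e) ≫ p = x₁' ≫ p := by
          rw [hv']; ext1; exact h
        have h2 : (D.φ v' x₁' h1 ≫ e) ≫ p = (v' ≫ e) ≫ p := by rw [D.φ_e, ← h1]
        have e1 : (D.tr x₀ x₁ h v).1 = (D.φ v' x₁' h1).left := rfl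
        rw [D.tr_val (T := T') x₁ x₀ h.symm (D.tr x₀ x₁ h v) (D.φ v' x₁' h1) (v' ≫ e) e1.symm (by rw [hv']; rfl) h2,
          D.φ_comp v' x₁' (v' ≫ e) h1 h2 rfl, D.φ_self]
        rfl
      right_inv := fun v => by
        apply Subtype.ext
        let T' : Over S := Over.mk (x₁ ≫ X.hom)
        let v' : T' ⟶ E := vpt x₁ v (x₁ ≫ X.hom) rfl
        let x₁' : T' ⟶ X := Over.homMk x₀ (hom_eq x₁ x₀ h.symm).symm
        have hv' : v' ≫ e = (Over.homMk x₁ rfl : T' ⟶ X) := by ext1; exact v.2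
        have h1 : (v' ≫ e) ≫ p = x₁' ≫ p := by
          rw [hv']; ext1; exact h.symm
        have h2 : (D.φ v' x₁' h1 ≫ e) ≫ p = (v' ≫ e) ≫ p := by rw [D.φ_e, ← h1]
        have e1 : (D.tr x₁ x₀ h.symm v).1 = (D.φ v' x₁' h1).left := rfl
        rw [D.tr_val (T := T') x₀ x₁ h (D.tr x₁ x₀ h.symm v) (D.φ v' x₁' h1) (v' ≫ e) e1.symm (by rw [hv']; rfl) h2,
          D.φ_comp v' x₁' (v' ≫ e) h1 h2 rfl, D.φ_self]
        rfl }
  φ_natural T T' g x₀ x₁ h h' v v' hv := by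
    let T₀ : Over S := Over.mk (x₀ ≫ X.hom)
    let T₁ : Over S := Over.mk ((g ≫ x₀) ≫ X.hom)
    let g' : T₁ ⟶ T₀ := Over.homMk g (by simp [T₀, T₁])
    let w : T₀ ⟶ E := vpt x₀ v (x₀ ≫ X.hom) rfl
    let x₁' : T₀ ⟶ X := Over.homMk x₁ (hom_eq x₀ x₁ h).symm
    have hw : w ≫ e = (Over.homMk x₀ rfl : T₀ ⟶ X) := by ext1; exact v.2
    have h1 : (w ≫ e) ≫ p = x₁' ≫ p := by
      rw [hw]; ext1; exact h
    have h2 : ((g' ≫ w) ≫ e) ≫ p = (g' ≫ x₁') ≫ p := by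
      rw [Category.assoc, Category.assoc, Category.assoc, ← Category.assoc w, h1]
    have e1 : (D.tr (g ≫ x₀) (g ≫ x₁) h' v').1 = (D.φ (g' ≫ w) (g' ≫ x₁') h2).left :=
      D.tr_val (T := T₁) (g ≫ x₀) (g ≫ x₁) h' v' (g' ≫ w) (g' ≫ x₁') hv.symm rfl h2
    change (D.tr (g ≫ x₀) (g ≫ x₁) h' v').1 = _
    rw [e1, D.φ_natural g' w x₁' h1 h2]
    rfl
  φ_self T x v := by
    apply Subtype.ext
    let T₀ : Over S := Over.mk (x ≫ X.hom)
    let w : T₀ ⟶ E := vpt x v (x ≫ X.hom) rfl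
    have hw : w ≫ e = (Over.homMk x rfl : T₀ ⟶ X) := by ext1; exact v.2
    have e1 : (D.tr x x rfl v).1 = (D.φ w (w ≫ e) rfl).left :=
      D.tr_val (T := T₀) x x rfl v w (w ≫ e) rfl (by rw [hw]; rfl) rfl
    change (D.tr x x rfl v).1 = _
    rw [e1, D.φ_self]
    rfl
  φ_comp T x₀ x₁ x₂ h₀₁ h₁₂ v := by
    apply Subtype.ext
    let T₀ : Over S := Over.mk (x₀ ≫ X.hom)
    let w : T₀ ⟶ E := vpt x₀ v (x₀ ≫ X.hom) rfl
    let x₁' : T₀ ⟶ X := Over.homMk x₁ (hom_eq x₀ x₁ h₀₁).symm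
    let x₂' : T₀ ⟶ X := Over.homMk x₂ (hom_eq x₀ x₂ (h₀₁.trans h₁₂)).symm
    have hw : w ≫ e = (Over.homMk x₀ rfl : T₀ ⟶ X) := by ext1; exact v.2
    have h1 : (w ≫ e) ≫ p = x₁' ≫ p := by
      rw [hw]; ext1; exact h₀₁
    have h3 : (w ≫ e) ≫ p = x₂' ≫ p := by
      rw [hw]; ext1; exact h₀₁.trans h₁₂
    have h2 : (D.φ w x₁' h1 ≫ e) ≫ p = x₂' ≫ p := by
      rw [D.φ_e]; ext1; exact h₁₂
    have e1 : (D.tr x₁ x₂ h₁₂ (D.tr x₀ x₁ h₀₁ v)).1 = (D.φ (D.φ w x₁' h1) x₂' h2).left :=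
      D.tr_val (T := T₀) x₁ x₂ h₁₂ (D.tr x₀ x₁ h₀₁ v) (D.φ w x₁' h1) x₂' rfl rfl h2
    have e2 : (D.tr x₀ x₂ (h₀₁.trans h₁₂) v).1 = (D.φ w x₂' h3).left := rfl
    change (D.tr x₁ x₂ h₁₂ (D.tr x₀ x₁ h₀₁ v)).1 = (D.tr x₀ x₂ (h₀₁.trans h₁₂) v).1
    rw [e1, e2, D.φ_comp w x₁' x₂' h1 h2 h3]

end PtDD

/-- Effectivity: an affine `e : E ⟶ X` with a descent datum relative to the fpqc cover `p : X ⟶ Y` is the base
change of some `u : U ⟶ Y`, compatibly with the descent datum. -/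
theorem exists_effective {E X Y : Over S} {p : X ⟶ Y} {e : E ⟶ X} (D : PtDD p e) [Flat p.left] [Surjective p.left]
    [QuasiCompact p.left] [IsAffineHom e.left] :
    ∃ (U : Over S) (w : U ⟶ Y) (ε : E ⟶ U), IsAffineHom w.left ∧ IsPullback ε e w p ∧
      ∀ (T : Over S) (v : T ⟶ E) (x₁ : T ⟶ X) (h : (v ≫ e) ≫ p = x₁ ≫ p), D.φ v x₁ h ≫ ε = v ≫ ε := by
  have he : IsAffineHom D.toSchDD.obj.hom := inferInstanceAs (IsAffineHom e.left)
  obtain ⟨U₀, ⟨ψ⟩⟩ := Groth.Agent.S1133.result p.left D.toSchDD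
  let j : E.left ⟶ pullback p.left U₀.hom := ψ.inv.hom.left
  let j' : pullback p.left U₀.hom ⟶ E.left := ψ.hom.hom.left
  have hjj : j ≫ j' = 𝟙 _ := congrArg (fun f => (Desc.SchDD.Hom.hom f).left) ψ.inv_hom_id
  have hj'j : j' ≫ j = 𝟙 _ := congrArg (fun f => (Desc.SchDD.Hom.hom f).left) ψ.hom_inv_id
  have hj : j ≫ pullback.fst p.left U₀.hom = e.left := Over.w ψ.inv.hom
  let jI : E.left ≅ pullback p.left U₀.hom := ⟨j, j', hjj, hj'j⟩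
  have hPB : IsPullback e.left (j ≫ pullback.snd p.left U₀.hom) p.left U₀.hom := by
    refine IsPullback.of_iso_pullback ⟨?_⟩ jI hj rfl
    rw [Category.assoc, ← pullback.condition, ← Category.assoc, hj]
  let U : Over S := Over.mk (U₀.hom ≫ Y.hom)
  let w : U ⟶ Y := Over.homMk U₀.hom rfl
  let ε : E ⟶ U := Over.homMk (j ≫ pullback.snd p.left U₀.hom) (by
    change (j ≫ pullback.snd p.left U₀.hom) ≫ U₀.hom ≫ Y.hom = E.hom
    rw [← Category.assoc, ← hPB.w, Category.assoc, Over.w p, Over.w e])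
  have hPB' : IsPullback e ε p w := by
    refine IsPullback.of_map (Over.forget S) ?_ hPB
    ext1
    exact hPB.w
  refine ⟨U, w, ε, ?_, hPB'.flip, ?_⟩
  · exact MorphismProperty.of_isPullback_of_descendsAlong (P := @IsAffineHom)
      (Q := @Surjective ⊓ @Flat ⊓ @QuasiCompact) hPB ⟨⟨‹_›, ‹_›⟩, ‹_›⟩ ‹_›
  · intro T v x₁ h
    ext1
    have hx : (v ≫ e).left ≫ p.left = x₁.left ≫ p.left := congrArg (fun z => Over.Hom.left z) h
    let v₀ : Desc.Lifts D.toSchDD.obj (v ≫ e).left := ⟨v.left, rfl⟩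
    have e1 := ψ.inv.comm (v ≫ e).left x₁.left hx v₀ ⟨v.left ≫ j, (Category.assoc _ _ _).trans (congrArg (v.left ≫ ·) hj)⟩ rfl
    have e2 : (D.tr (v ≫ e).left x₁.left hx v₀).1 = (D.φ v x₁ h).left :=
      D.tr_val (T := T) (v ≫ e).left x₁.left hx v₀ v x₁ rfl rfl h
    have e3 := congrArg (· ≫ pullback.snd p.left U₀.hom) e1
    have e4 : (((Desc.toDD p.left).obj U₀).φ (v ≫ e).left x₁.left hx ⟨v.left ≫ j,
        (Category.assoc _ _ _).trans (congrArg (v.left ≫ ·) hj)⟩).1 ≫ pullback.snd p.left U₀.hom =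
        (v.left ≫ j) ≫ pullback.snd p.left U₀.hom := pullback.lift_snd _ _ _
    have e5 : (D.toSchDD.φ (v ≫ e).left x₁.left hx v₀).1 = (D.φ v x₁ h).left := e2
    rw [e5] at e3
    change (D.φ v x₁ h).left ≫ j ≫ pullback.snd p.left U₀.hom = v.left ≫ j ≫ pullback.snd p.left U₀.hom
    rw [← Category.assoc v.left, ← e4, ← Category.assoc]
    exact e3.symm

end Groth.Agent.Sga3.H962.DescDD
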