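import Groth.Agent.Sga3.H962.Fpqc
import Groth.Agent.Sga3.H962.DescDD

/-!
# Quotient of a group scheme `G` by `H`, from a quotient `G ⟶ B` with kernel `M` and `M/H` affine
-/

set_option autoImplicit false
universe v u
open CategoryTheory MonoidalCategory CartesianMonoidalCategory MonObj GrpObj AlgebraicGeometry Limits
open Groth.Agent.Sga3.H962.Fpqc Groth.Agent.Sga3.H962.DescDD

namespace Groth.Agent.Sga3.H962.DescQuot

set_option linter.unusedSectionVars false

variable {S : Scheme.{u}} {G B M H P : Over S} [GrpObj G] [GrpObj B] [GrpObj M] [GrpObj H] [GrpObj P]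
  {b : G ⟶ B} {m : M ⟶ G} {p : M ⟶ P} {j : H ⟶ M}

section

variable [IsMonHom b] [IsMonHom m] [IsMonHom p] (hm : IsPullback m (toUnit M) b η[B])

include hm in
theorem exists_c {T : Over S} (x y : T ⟶ G) (h : x ≫ b = y ≫ b) : ∃ c : T ⟶ M, c ≫ m = y⁻¹ * x :=
  (rel_of_kernel m b hm T y x).1 h.symm

/-- the element `y⁻¹ x` of `M` -/
noncomputable def cc {T : Over S} (x y : T ⟶ G) (h : x ≫ b = y ≫ b) : T ⟶ M := (exists_c hm x y h).choose

theorem cc_m {T : Over S} (x y : T ⟶ G) (h : x ≫ b = y ≫ b) : cc hm x y h ≫ m = y⁻¹ * x :=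
  (exists_c hm x y h).choose_spec

include hm in
theorem mono_m : Mono m := mono_of_kernel m b hm

variable (p)

/-- The descent datum on `G × P` over `G` relative to `b : G ⟶ B`: `(x, c) ↦ (y, p(y⁻¹ x) c)`. -/
noncomputable def dd : PtDD b (fst G P) where
  φ {T} v y h := lift y ((cc hm (v ≫ fst G P) y h ≫ p) * (v ≫ snd G P))
  φ_e v y h := lift_fst _ _
  φ_natural {T T'} g v y h h' := by
    have := mono_m hm
    have h1 : cc hm ((g ≫ v) ≫ fst G P) (g ≫ y) h' = g ≫ cc hm (v ≫ fst G P) y h := by
      rw [← cancel_mono m, cc_m, Category.assoc, Category.assoc, cc_m, MonObj.comp_mul, GrpObj.comp_inv]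
    rw [comp_lift, h1, MonObj.comp_mul, Category.assoc, Category.assoc]
  φ_self v := by
    have := mono_m hm
    have h1 : cc hm (v ≫ fst G P) (v ≫ fst G P) rfl = 1 := by
      rw [← cancel_mono m, cc_m, one_comp]
      group
    rw [h1, one_comp, _root_.one_mul]
    ext1 <;> simp
  φ_comp v y z h h₂ h₃ := by
    have := mono_m hm
    congr 1
    rw [lift_snd, ← _root_.mul_assoc, ← mul_comp]
    congr 2
    rw [← cancel_mono m, mul_comp, cc_m, cc_m, cc_m]
    simp

variable {p}

/-- The multiplication `G × M ⟶ G`, `(g, c) ↦ g c`, is isomorphic to the first projection. -/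
noncomputable def shearM (m : M ⟶ G) : G ⊗ M ≅ G ⊗ M where
  hom := lift (fst G M * (snd G M ≫ m)) (snd G M)
  inv := lift (fst G M * (snd G M ≫ m)⁻¹) (snd G M)
  hom_inv_id := by
    ext1
    · simp only [comp_lift, lift_fst, MonObj.comp_mul, GrpObj.comp_inv, lift_snd, Category.id_comp, lift_snd_assoc,
        mul_inv_cancel_right]
    · simp
  inv_hom_id := by
    ext1
    · simp only [comp_lift, lift_fst, MonObj.comp_mul, lift_snd, Category.id_comp, lift_snd_assoc,
        inv_mul_cancel_right]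
    · simp

theorem shearM_fst (m : M ⟶ G) : (shearM m).hom ≫ fst G M = fst G M * (snd G M ≫ m) := lift_fst _ _

include hm in
theorem exists_quot (hH : IsPullback j (toUnit H) p η[P]) [IsAffineHom P.hom] [Flat M.hom] [Surjective M.hom]
    [QuasiCompact M.hom] [Flat b.left] [Surjective b.left] [QuasiCompact b.left] [Flat p.left] [Surjective p.left]
    [QuasiCompact p.left] : ∃ (Q : Over S) (q : G ⟶ Q) (w : Q ⟶ B), q ≫ w = b ∧ IsAffineHom w.left ∧
      Flat q.left ∧ Surjective q.left ∧ QuasiCompact q.left ∧ Rel (j ≫ m) q := by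
  have hmono := mono_m hm
  have haff : IsAffineHom (fst G P).left := MorphismProperty.pullback_fst (P := @IsAffineHom) G.hom P.hom ‹_›
  obtain ⟨Q, w, ε, hw, hPB, hcomp⟩ := exists_effective (dd p hm)
  let q : G ⟶ Q := lift (𝟙 G) (1 : G ⟶ P) ≫ ε
  have hqw : q ≫ w = b := by
    rw [Category.assoc, hPB.w, ← Category.assoc, lift_fst, Category.id_comp]
  have hxq : ∀ (T : Over S) (x : T ⟶ G), x ≫ q = lift x (1 : T ⟶ P) ≫ ε := by
    intro T x
    rw [← Category.assoc, comp_lift, Category.comp_id, MonObj.comp_one]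
  have hmb : m ≫ b = 1 := by rw [hm.w, Hom.one_def]
  have key : ∀ (T : Over S) (x : T ⟶ G) (c : T ⟶ M), lift x (c ≫ p) ≫ ε = (x * (c ≫ m)) ≫ q := by
    intro T x c
    have h1 : (lift (x * (c ≫ m)) (1 : T ⟶ P) ≫ fst G P) ≫ b = x ≫ b := by
      rw [lift_fst, mul_comp, Category.assoc, hmb, MonObj.comp_one, _root_.mul_one]
    have h2 := hcomp T (lift (x * (c ≫ m)) (1 : T ⟶ P)) x h1
    have h3 : cc hm (lift (x * (c ≫ m)) (1 : T ⟶ P) ≫ fst G P) x h1 = c := by
      rw [← cancel_mono m, cc_m, lift_fst]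
      group
    have h4 : (dd p hm).φ (lift (x * (c ≫ m)) (1 : T ⟶ P)) x h1 = lift x (c ≫ p) := by
      change lift x ((cc hm _ x h1 ≫ p) * (lift (x * (c ≫ m)) (1 : T ⟶ P) ≫ snd G P)) = _
      rw [h3, lift_snd, _root_.mul_one]
    rw [← h4, h2, hxq]
  have hrel : Rel (j ≫ m) q := by
    intro T x y
    constructor
    · intro hxy
      have hb : x ≫ b = y ≫ b := by
        rw [← hqw, ← Category.assoc, hxy, Category.assoc]
      have e1 := cc_m hm y x hb.symm
      have e2 : y = x * (cc hm y x hb.symm ≫ m) := by rw [e1]; group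
      have e3 : lift x (cc hm y x hb.symm ≫ p) ≫ ε = lift x (1 : T ⟶ P) ≫ ε := by
        rw [key, ← e2, ← hxy, hxq]
      have e4 : lift x (cc hm y x hb.symm ≫ p) = lift x (1 : T ⟶ P) :=
        hPB.hom_ext e3 (by rw [lift_fst, lift_fst])
      have e5 : cc hm y x hb.symm ≫ p = 1 := by
        have := congrArg (fun z => z ≫ snd G P) e4
        simpa using this
      obtain ⟨c, hc⟩ := (kernel_iff j p hH T _).1 e5
      exact ⟨c, by rw [← Category.assoc, hc, e1]⟩
    · rintro ⟨c, hc⟩
      have e2 : y = x * ((c ≫ j) ≫ m) := by rw [Category.assoc, hc]; group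
      rw [e2, ← key, Category.assoc, hH.w, hxq]
      congr 2
      rw [← Category.assoc, Hom.one_def]
      congr 1
      exact toUnit_unique _ _
  let μM : G ⊗ M ⟶ G := fst G M * (snd G M ≫ m)
  have hsq : μM ≫ q = (G ◁ p) ≫ ε := by
    have := key (G ⊗ M) (fst G M) (snd G M)
    rw [← this]
    congr 1
  have hf : Flat (fst G M).left := inferInstanceAs (Flat (pullback.fst G.hom M.hom))
  have hs : Surjective (fst G M).left := inferInstanceAs (Surjective (pullback.fst G.hom M.hom))
  have hqc : QuasiCompact (fst G M).left := inferInstanceAs (QuasiCompact (pullback.fst G.hom M.hom))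
  have hμM : μM.left = (shearM m).hom.left ≫ (fst G M).left := by
    rw [← Over.comp_left, shearM_fst]
  have i1 : Flat μM.left := by rw [hμM]; infer_instance
  have i2 : Surjective μM.left := by rw [hμM]; infer_instance
  have i3 : QuasiCompact μM.left := by rw [hμM]; infer_instance
  have hPB' := hPB.map (Over.forget S)
  have j1 : Flat ε.left := MorphismProperty.of_isPullback (P := @Flat) hPB'.flip ‹_›
  have j2 : Surjective ε.left := MorphismProperty.of_isPullback (P := @Surjective) hPB'.flip ‹_›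
  have j3 : QuasiCompact ε.left := MorphismProperty.of_isPullback (P := @QuasiCompact) hPB'.flip ‹_›
  have k1 : Flat (G ◁ p).left := by
    rw [← id_tensorHom]; exact tensorHom_left_of (@Flat) _ p (by rw [Over.id_left]; infer_instance) ‹_›
  have k2 : Surjective (G ◁ p).left := by
    rw [← id_tensorHom]; exact tensorHom_left_of (@Surjective) _ p (by rw [Over.id_left]; infer_instance) ‹_›
  have k3 : QuasiCompact (G ◁ p).left := by
    rw [← id_tensorHom]; exact tensorHom_left_of (@QuasiCompact) _ p (by rw [Over.id_left]; infer_instance) ‹_›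
  have hsq' : μM.left ≫ q.left = (G ◁ p).left ≫ ε.left := by
    rw [← Over.comp_left, ← Over.comp_left, hsq]
  have l1 : Flat (μM.left ≫ q.left) := by rw [hsq']; infer_instance
  have l2 : Surjective (μM.left ≫ q.left) := by rw [hsq']; infer_instance
  have l3 : QuasiCompact (μM.left ≫ q.left) := by rw [hsq']; infer_instance
  refine ⟨Q, q, w, hqw, hw, ?_, ?_, ?_, hrel⟩
  · exact Groth.Agent.Flat2F.FlatComp.flat_of_flat_comp_of_flat_surjective μM.left q.left
  · exact Surjective.of_comp μM.left q.left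
  · exact quasiCompact_of_comp_surjective μM.left q.left

end

/-- If `b : G ⟶ B` is a faithfully flat quasi-compact quotient with kernel `M`, `p : M ⟶ P` a faithfully flat
quasi-compact quotient with kernel `H`, `P` affine over the base and `H` normal in `G`, then `G/H` exists. -/
theorem exists_quot_of_kernel [IsMonHom b] [IsMonHom m] [IsMonHom p] (j : H ⟶ M) [IsMonHom j]
    (hm : AlgGrp.IsKernel m b) (hH : AlgGrp.IsKernel j p) (hN : AlgGrp.IsNormalHom (j ≫ m))
    [IsAffineHom P.hom] [Flat M.hom] [Surjective M.hom]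
    [QuasiCompact M.hom] [Flat b.left] [Surjective b.left] [QuasiCompact b.left] [Flat p.left] [Surjective p.left]
    [QuasiCompact p.left] : ∃ (Q : Over S) (_ : GrpObj Q) (q : G ⟶ Q), IsMonHom q ∧ Surjective q.left ∧
      Flat q.left ∧ QuasiCompact q.left ∧ AlgGrp.IsKernel (j ≫ m) q := by
  obtain ⟨Q, q, w, -, -, h1, h2, h3, hrel⟩ := exists_quot hm hH
  obtain ⟨g, hg⟩ := exists_grpObj_quotient (j ≫ m) q hrel hN
  have := mono_of_kernel m b hm
  have := mono_of_kernel j p hH
  have : Mono (j ≫ m) := mono_comp _ _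
  exact ⟨Q, g, q, hg, h2, h1, h3, kernel_of_rel (j ≫ m) q hrel⟩

end Groth.Agent.Sga3.H962.DescQuot
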