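import Groth.Agent.Sga3C.QuotGrpObj
import Groth.Agent.Flat2F.FlatComp
import Groth.Prelude.Def_AlgGrp
import Mathlib.AlgebraicGeometry.Sites.Fpqc

/-!
# fpqc quotients of group schemes: descent of morphisms, of the group structure, kernels

`Rel u p` : the points of the kernel pair of `p : G ⟶ X` are the pairs `(x, y)` with `x⁻¹ * y` in `F`.
-/

set_option autoImplicit false
universe v u
open CategoryTheory MonoidalCategory CartesianMonoidalCategory MonObj GrpObj AlgebraicGeometry Limits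

namespace Groth.Agent.Sga3.H962.Fpqc

section Cat

variable {C : Type u} [Category.{v} C] [CartesianMonoidalCategory C]

/-- The fibres of `p` are the right cosets `x F`. -/
def Rel {F G X : C} [GrpObj G] (u : F ⟶ G) (p : G ⟶ X) : Prop :=
  ∀ (T : C) (x y : T ⟶ G), x ≫ p = y ≫ p ↔ ∃ c : T ⟶ F, c ≫ u = x⁻¹ * y

/-- points of the kernel -/
theorem kernel_iff {N G Q : C} [GrpObj G] [GrpObj Q] (i : N ⟶ G) (q : G ⟶ Q) [IsMonHom q]
    (h : IsPullback i (toUnit N) q η[Q]) (T : C) (x : T ⟶ G) : x ≫ q = 1 ↔ ∃ c : T ⟶ N, c ≫ i = x := by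
  constructor
  · intro hx
    refine ⟨h.lift x (toUnit T) (by rw [hx, Hom.one_def]), h.lift_fst _ _ _⟩
  · rintro ⟨c, rfl⟩
    rw [Category.assoc, h.w, ← Category.assoc, Hom.one_def]
    congr 1
    exact toUnit_unique _ _

theorem rel_of_kernel {N G Q : C} [GrpObj G] [GrpObj Q] (i : N ⟶ G) (q : G ⟶ Q) [IsMonHom q]
    (h : IsPullback i (toUnit N) q η[Q]) : Rel i q := by
  intro T x y
  rw [← kernel_iff i q h T (x⁻¹ * y), mul_comp, inv_comp, inv_mul_eq_one]

theorem mono_of_kernel {N G Q : C} [GrpObj G] [GrpObj Q] (i : N ⟶ G) (q : G ⟶ Q)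
    (h : IsPullback i (toUnit N) q η[Q]) : Mono i := by
  refine ⟨fun {T} a b hab => h.hom_ext hab (toUnit_unique _ _)⟩

theorem kernel_of_rel {F G Q : C} [GrpObj G] [GrpObj Q] (u : F ⟶ G) [Mono u] (q : G ⟶ Q) [IsMonHom q]
    (h : Rel u q) : IsPullback u (toUnit F) q η[Q] := by
  have key : ∀ (T : C) (x : T ⟶ G), x ≫ q = 1 ↔ ∃ c : T ⟶ F, c ≫ u = x := by
    intro T x
    have := h T 1 x
    rw [inv_one, _root_.one_mul, one_comp] at this
    rw [← this]
    exact eq_comm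
  have hu : u ≫ q = toUnit F ≫ η[Q] := by
    have := (key F u).2 ⟨𝟙 F, Category.id_comp _⟩
    rw [this, Hom.one_def]
  have hs : ∀ s : PullbackCone q η[Q], ∃ c : s.pt ⟶ F, c ≫ u = s.fst := fun s =>
    (key s.pt s.fst).1 (by
      rw [s.condition, Hom.one_def]
      congr 1
      exact toUnit_unique _ _)
  choose l hl using hs
  refine ⟨⟨hu⟩, ⟨PullbackCone.IsLimit.mk _ l hl (fun s => toUnit_unique _ _) ?_⟩⟩
  intro s m hm _
  rw [← cancel_mono u, hm, hl]

end Cat

variable {S : Scheme.{u}}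

theorem quasiCompact_of_comp_surjective {X Y Z : Scheme.{u}} (f : X ⟶ Y) (g : Y ⟶ Z)
    [hs : Surjective f] [h : QuasiCompact (f ≫ g)] : QuasiCompact g := by
  constructor
  intro U hU hUc
  have h1 := h.isCompact_preimage U hU hUc
  have h2 : g ⁻¹' U = f '' ((f ≫ g) ⁻¹' U) := by
    ext y
    constructor
    · intro hy
      obtain ⟨x, rfl⟩ := hs.surj y
      exact ⟨x, by simpa using hy, rfl⟩
    · rintro ⟨x, hx, rfl⟩
      simpa using hx
  rw [h2]
  exact h1.image f.continuous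

/-- Descent of morphisms along an fpqc cover, in `Over S`. -/
theorem exists_desc {G X Z : Over S} (p : G ⟶ X) [Flat p.left] [Surjective p.left]
    [QuasiCompact p.left] (f : G ⟶ Z)
    (hf : ∀ (T : Over S) (x y : T ⟶ G), x ≫ p = y ≫ p → x ≫ f = y ≫ f) : ∃ g : X ⟶ Z, p ≫ g = f := by
  have hf' : ∀ {W : Scheme.{u}} (g₁ g₂ : W ⟶ G.left), g₁ ≫ p.left = g₂ ≫ p.left → g₁ ≫ f.left = g₂ ≫ f.left := by
    intro W g₁ g₂ h
    have h2 : g₂ ≫ G.hom = g₁ ≫ G.hom := by
      rw [← Over.w p, ← Category.assoc, ← Category.assoc, h]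
    let T : Over S := Over.mk (g₁ ≫ G.hom)
    have := hf T (Over.homMk g₁ rfl) (Over.homMk g₂ h2) (by ext1; exact h)
    exact congrArg (fun z => Over.Hom.left z) this
  have hp : Epi p.left := Flat.epi_of_flat_of_surjective _
  have hfac := EffectiveEpi.fac p.left f.left hf'
  refine ⟨Over.homMk (EffectiveEpi.desc p.left f.left hf') ?_, ?_⟩
  · rw [← cancel_epi p.left, ← Category.assoc, hfac, Over.w, Over.w]
  · ext1
    exact hfac

theorem epi_of_flat_surjective {G X : Over S} (p : G ⟶ X) [Flat p.left] [Surjective p.left] : Epi p := by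
  have hp : Epi p.left := Flat.epi_of_flat_of_surjective _
  exact Over.epi_of_epi_left _

/-- A property stable under composition and base change passes to products of morphisms. -/
theorem tensorHom_left_of {X Y X' Y' : Over S} (P : MorphismProperty Scheme.{u}) [P.IsStableUnderBaseChange]
    [P.IsStableUnderComposition] (a : X ⟶ X') (b : Y ⟶ Y') (ha : P a.left) (hb : P b.left) :
    P (a ⊗ₘ b).left :=
  MorphismProperty.pullbackMap ha hb (Over.w a).symm (Over.w b).symm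

variable {F G X : Over S} [GrpObj G]

/-- The fpqc quotient of a group scheme by a normal subgroup scheme is a group scheme. -/
theorem exists_grpObj_quotient [GrpObj F] (u : F ⟶ G) [IsMonHom u] (p : G ⟶ X) [Flat p.left]
    [Surjective p.left] [QuasiCompact p.left] (hp : Rel u p) (hN : AlgGrp.IsNormalHom u) :
    ∃ _ : GrpObj X, IsMonHom p := by
  have f2 : Flat (p ⊗ₘ p).left := tensorHom_left_of (@Flat) p p ‹_› ‹_›
  have s2 : Surjective (p ⊗ₘ p).left := tensorHom_left_of (@Surjective) p p ‹_› ‹_›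
  have l2 : QuasiCompact (p ⊗ₘ p).left := tensorHom_left_of (@QuasiCompact) p p ‹_› ‹_›
  obtain ⟨m, hm⟩ := exists_desc (p ⊗ₘ p) (μ[G] ≫ p) (by
    intro T x y hxy
    have e1 : (x ≫ fst G G) ≫ p = (y ≫ fst G G) ≫ p := by
      have := congrArg (fun z => z ≫ fst X X) hxy
      simpa using this
    have e2 : (x ≫ snd G G) ≫ p = (y ≫ snd G G) ≫ p := by
      have := congrArg (fun z => z ≫ snd X X) hxy
      simpa using this
    obtain ⟨c₁, h₁⟩ := (hp _ _ _).1 e1
    obtain ⟨c₂, h₂⟩ := (hp _ _ _).1 e2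
    obtain ⟨n, hn⟩ := hN T (x ≫ snd G G)⁻¹ c₁
    have ex : x ≫ μ[G] = (x ≫ fst G G) * (x ≫ snd G G) := by
      rw [Hom.mul_def]; congr 1; ext1 <;> simp
    have ey : y ≫ μ[G] = (y ≫ fst G G) * (y ≫ snd G G) := by
      rw [Hom.mul_def]; congr 1; ext1 <;> simp
    rw [← Category.assoc, ← Category.assoc, ex, ey]
    refine (hp _ _ _).2 ⟨n * c₂, ?_⟩
    rw [mul_comp, ← hn, h₁, h₂]
    group)
  obtain ⟨i, hi⟩ := exists_desc p (ι[G] ≫ p) (by
    intro T x y hxy
    obtain ⟨c, h⟩ := (hp _ _ _).1 hxy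
    obtain ⟨n, hn⟩ := hN T x c⁻¹
    have ex : x ≫ ι[G] = x⁻¹ := rfl
    have ey : y ≫ ι[G] = y⁻¹ := rfl
    rw [← Category.assoc, ← Category.assoc, ex, ey]
    refine (hp _ _ _).2 ⟨n, ?_⟩
    rw [← hn, inv_comp, h]
    group)
  have := epi_of_flat_surjective p
  have fl : Flat (𝟙 (𝟙_ (Over S)) ⊗ₘ p).left := tensorHom_left_of (@Flat) _ p (by rw [Over.id_left]; infer_instance) ‹_›
  have sl : Surjective (𝟙 (𝟙_ (Over S)) ⊗ₘ p).left :=
    tensorHom_left_of (@Surjective) _ p (by rw [Over.id_left]; infer_instance) ‹_›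
  have fr : Flat (p ⊗ₘ 𝟙 (𝟙_ (Over S))).left := tensorHom_left_of (@Flat) p _ ‹_› (by rw [Over.id_left]; infer_instance)
  have sr : Surjective (p ⊗ₘ 𝟙 (𝟙_ (Over S))).left :=
    tensorHom_left_of (@Surjective) p _ ‹_› (by rw [Over.id_left]; infer_instance)
  have f3 : Flat ((p ⊗ₘ p) ⊗ₘ p).left := tensorHom_left_of (@Flat) _ p ‹_› ‹_›
  have s3 : Surjective ((p ⊗ₘ p) ⊗ₘ p).left := tensorHom_left_of (@Surjective) _ p ‹_› ‹_›
  have := epi_of_flat_surjective (𝟙 (𝟙_ (Over S)) ⊗ₘ p)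
  have := epi_of_flat_surjective (p ⊗ₘ 𝟙 (𝟙_ (Over S)))
  have := epi_of_flat_surjective ((p ⊗ₘ p) ⊗ₘ p)
  obtain ⟨g, hg, -⟩ := Sga3C.QuotGrpObj.exists_grpObj p m hm i hi (fun _ _ => (cancel_epi _).mp)
    (fun _ _ => (cancel_epi _).mp) (fun _ _ => (cancel_epi _).mp) (fun _ _ => (cancel_epi _).mp)
  exact ⟨g, hg⟩

end Groth.Agent.Sga3.H962.Fpqc
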