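import Groth.Agent.Sga3.H962.Fpqc

/-!
# The second isomorphism theorem for fpqc quotients: from `N ⟶ N/(N ∩ H)` to `M ⟶ M/H` when `N × H ⟶ M` is fpqc
-/

set_option autoImplicit false
universe v u
open CategoryTheory MonoidalCategory CartesianMonoidalCategory MonObj GrpObj AlgebraicGeometry Limits
open Groth.Agent.Sga3.H962.Fpqc

namespace Groth.Agent.Sga3.H962.SecondIso

section Cat

variable {C : Type u} [Category.{v} C] [CartesianMonoidalCategory C]

theorem mu_eq (G : C) [MonObj G] : (μ[G] : G ⊗ G ⟶ G) = fst G G * snd G G := by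
  rw [Hom.mul_def]; simp

/-- A morphism of group objects which is multiplicative on points is a homomorphism. -/
theorem isMonHom_of_points {G H : C} [GrpObj G] [GrpObj H] (f : G ⟶ H)
    (h : ∀ (T : C) (x y : T ⟶ G), (x * y) ≫ f = (x ≫ f) * (y ≫ f)) : IsMonHom f where
  one_hom := by
    have h1 := h (𝟙_ C) 1 1
    rw [_root_.mul_one, left_eq_mul] at h1
    have e1 : (1 : 𝟙_ C ⟶ G) = η[G] := by
      rw [Hom.one_def, toUnit_unit, Category.id_comp]
    have e2 : (1 : 𝟙_ C ⟶ H) = η[H] := by
      rw [Hom.one_def, toUnit_unit, Category.id_comp]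
    rw [← e1, ← e2, h1]
  mul_hom := by
    rw [mu_eq, h, mu_eq, MonObj.comp_mul]
    congr 1 <;> simp

end Cat

set_option linter.unusedSectionVars false

variable {S : Scheme.{u}} {M N H P K : Over S} [GrpObj M] [GrpObj N] [GrpObj H] [GrpObj P]
  {i : N ⟶ M} {j : H ⟶ M} {a : K ⟶ N} {r : K ⟶ H} {π : N ⟶ P}
  [IsMonHom i] [IsMonHom j] [IsMonHom π]

/-- the multiplication `N × H ⟶ M` -/
noncomputable def sig (i : N ⟶ M) (j : H ⟶ M) : N ⊗ H ⟶ M := (fst N H ≫ i) * (snd N H ≫ j)

theorem comp_sig {T : Over S} (x : T ⟶ N ⊗ H) : x ≫ sig i j = ((x ≫ fst N H) ≫ i) * ((x ≫ snd N H) ≫ j) := by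
  rw [sig, MonObj.comp_mul, Category.assoc, Category.assoc]

/-- An element of `M` which is both in `N` and in `H` is killed by `π`. -/
theorem comp_pi_eq_one (hK : IsPullback a r i j) (hπ : IsPullback a (toUnit K) π η[P]) {T : Over S} (n : T ⟶ N)
    (h : T ⟶ H) (hnh : n ≫ i = h ≫ j) : n ≫ π = 1 :=
  (kernel_iff a π hπ T n).2 ⟨hK.lift n h hnh, hK.lift_fst _ _ _⟩

variable [Flat (sig i j).left] [Surjective (sig i j).left] [QuasiCompact (sig i j).left]

theorem exists_p (hK : IsPullback a r i j) (hπ : IsPullback a (toUnit K) π η[P]) :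
    ∃ p : M ⟶ P, sig i j ≫ p = fst N H ≫ π := by
  refine exists_desc (sig i j) (fst N H ≫ π) fun T x y hxy => ?_
  rw [comp_sig, comp_sig] at hxy
  have h1 : ((y ≫ fst N H)⁻¹ * (x ≫ fst N H)) ≫ i = ((y ≫ snd N H) * (x ≫ snd N H)⁻¹) ≫ j := by
    rw [mul_comp, mul_comp, inv_comp, inv_comp, inv_mul_eq_iff_eq_mul, ← _root_.mul_assoc, ← hxy]
    group
  have h2 := comp_pi_eq_one hK hπ _ _ h1
  rw [mul_comp, inv_comp, inv_mul_eq_one, Category.assoc, Category.assoc] at h2
  exact h2.symm

theorem epi_sig_sig : Epi (sig i j ⊗ₘ sig i j) := by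
  have h1 : Flat (sig i j ⊗ₘ sig i j).left := tensorHom_left_of (@Flat) _ _ ‹_› ‹_›
  have h2 : Surjective (sig i j ⊗ₘ sig i j).left := tensorHom_left_of (@Surjective) _ _ ‹_› ‹_›
  exact epi_of_flat_surjective _

variable {p : M ⟶ P} (hp : sig i j ≫ p = fst N H ≫ π)

include hp in
theorem comp_p {T : Over S} (n : T ⟶ N) (h : T ⟶ H) : ((n ≫ i) * (h ≫ j)) ≫ p = n ≫ π := by
  have := congrArg (fun z => lift n h ≫ z) hp
  rw [← Category.assoc, comp_sig, lift_fst, lift_snd, ← Category.assoc, lift_fst] at this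
  exact this

include hp in
theorem isMonHom_p (hK : IsPullback a r i j) (hπ : IsPullback a (toUnit K) π η[P]) (hi : AlgGrp.IsNormalHom i)
    (hj : AlgGrp.IsNormalHom j) : IsMonHom p := by
  have key : ∀ {T : Over S} (n n' : T ⟶ N) (h h' : T ⟶ H),
      (((n ≫ i) * (h ≫ j)) * ((n' ≫ i) * (h' ≫ j))) ≫ p = (n ≫ π) * (n' ≫ π) := by
    intro T n n' h h'
    obtain ⟨n'', hn''⟩ := hi T (h ≫ j) n'
    obtain ⟨h'', hh''⟩ := hj T (n'⁻¹ ≫ i) h
    have e1 : (((n ≫ i) * (h ≫ j)) * ((n' ≫ i) * (h' ≫ j))) = ((n * n'') ≫ i) * ((h * h') ≫ j) := by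
      rw [mul_comp, mul_comp, ← hn'']
      group
    rw [e1, comp_p hp, mul_comp]
    congr 1
    have e2 : (n'⁻¹ * n'') ≫ i = (h'' * h⁻¹) ≫ j := by
      rw [mul_comp, mul_comp, ← hn'', ← hh'', inv_comp, inv_comp]
      group
    have e3 := comp_pi_eq_one hK hπ _ _ e2
    rw [mul_comp, inv_comp, inv_mul_eq_one] at e3
    exact e3.symm
  have h1 : μ[M] ≫ p = (fst M M ≫ p) * (snd M M ≫ p) := by
    have := epi_sig_sig (i := i) (j := j)
    rw [← cancel_epi (sig i j ⊗ₘ sig i j), mu_eq, ← Category.assoc, MonObj.comp_mul, MonObj.comp_mul, ← Category.assoc,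
      ← Category.assoc, tensorHom_fst, tensorHom_snd, comp_sig, comp_sig, key, comp_p hp, comp_p hp]
  refine isMonHom_of_points p fun T x y => ?_
  have e1 : x * y = lift x y ≫ μ[M] := Hom.mul_def ..
  rw [e1, Category.assoc, h1, MonObj.comp_mul]
  congr 1 <;> rw [← Category.assoc] <;> simp

include hp in
theorem i_comp_p : i ≫ p = π := by
  have := comp_p hp (𝟙 N) (1 : N ⟶ H)
  rw [one_comp, _root_.mul_one, Category.id_comp, Category.id_comp] at this
  exact this

include hp in
theorem j_comp_p : j ≫ p = 1 := by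
  have := comp_p hp (1 : H ⟶ N) (𝟙 H)
  rw [one_comp, _root_.one_mul, Category.id_comp, one_comp] at this
  exact this

include hp in
theorem surjective_p [Surjective π.left] : Surjective p.left := by
  have : Surjective (i.left ≫ p.left) := by rw [← Over.comp_left, i_comp_p hp]; infer_instance
  exact Surjective.of_comp i.left p.left

include hp in
theorem flat_p [Flat π.left] [Flat H.hom] : Flat p.left := by
  have h1 : Flat (fst N H).left := inferInstanceAs (Flat (pullback.fst N.hom H.hom))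
  have h2 : Flat ((sig i j).left ≫ p.left) := by rw [← Over.comp_left, hp, Over.comp_left]; infer_instance
  exact Groth.Agent.Flat2F.FlatComp.flat_of_flat_comp_of_flat_surjective (sig i j).left p.left

include hp in
theorem quasiCompact_p [QuasiCompact π.left] [QuasiCompact H.hom] : QuasiCompact p.left := by
  have h1 : QuasiCompact (fst N H).left := inferInstanceAs (QuasiCompact (pullback.fst N.hom H.hom))
  have h2 : QuasiCompact ((sig i j).left ≫ p.left) := by rw [← Over.comp_left, hp, Over.comp_left]; infer_instance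
  exact quasiCompact_of_comp_surjective (sig i j).left p.left

include hp in
theorem isKernel_p [Mono j] [IsMonHom p] (hK : IsPullback a r i j) (hπ : IsPullback a (toUnit K) π η[P]) :
    AlgGrp.IsKernel j p := by
  have key : ∀ (T : Over S) (x : T ⟶ M), x ≫ p = 1 → ∃ c : T ⟶ H, c ≫ j = x := by
    intro T x hx
    -- the fpqc cover of `T` on which `x = n h`
    let T' : Over S := Over.mk (pullback.fst x.left (sig i j).left ≫ T.hom)
    let t : T' ⟶ T := Over.homMk (pullback.fst x.left (sig i j).left)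
    let s : T' ⟶ N ⊗ H := Over.homMk (pullback.snd x.left (sig i j).left) (by
      change _ = pullback.fst x.left (sig i j).left ≫ T.hom
      rw [← Over.w (sig i j), ← Category.assoc, ← pullback.condition, Category.assoc, Over.w])
    have hts : t ≫ x = s ≫ sig i j := by
      ext1
      exact pullback.condition
    have t1 : Flat t.left := inferInstanceAs (Flat (pullback.fst x.left (sig i j).left))
    have t2 : Surjective t.left := inferInstanceAs (Surjective (pullback.fst x.left (sig i j).left))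
    have t3 : QuasiCompact t.left := inferInstanceAs (QuasiCompact (pullback.fst x.left (sig i j).left))
    have h1 : (s ≫ fst N H) ≫ π = 1 := by
      rw [Category.assoc, ← hp, ← Category.assoc, ← hts, Category.assoc, hx, MonObj.comp_one]
    obtain ⟨c, hc⟩ := (kernel_iff a π hπ T' _).1 h1
    have h2 : t ≫ x = ((c ≫ r) * (s ≫ snd N H)) ≫ j := by
      rw [hts, comp_sig, mul_comp, ← hc]
      congr 1
      rw [Category.assoc, Category.assoc, hK.w]
    obtain ⟨g, hg⟩ := exists_desc t ((c ≫ r) * (s ≫ snd N H)) (fun W y z hyz => by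
      rw [← cancel_mono j, Category.assoc, Category.assoc, ← h2, ← Category.assoc, hyz, Category.assoc])
    have := epi_of_flat_surjective t
    exact ⟨g, by rw [← cancel_epi t, ← Category.assoc, hg, h2]⟩
  refine kernel_of_rel j p fun T x y => ?_
  constructor
  · intro hxy
    exact key T (x⁻¹ * y) (by rw [mul_comp, inv_comp, hxy, inv_mul_cancel])
  · rintro ⟨c, hc⟩
    have : y = x * (c ≫ j) := by rw [hc]; group
    rw [this, mul_comp, Category.assoc, j_comp_p hp, MonObj.comp_one, _root_.mul_one]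

variable (i j π) in
/-- Second isomorphism theorem: `N × H ⟶ M` fpqc, `π : N ⟶ P` fpqc with kernel `N ∩ H`, then `M/H` is `P`. -/
theorem exists_quot [Mono j] (hK : IsPullback a r i j) (hπ : AlgGrp.IsKernel a π) (hi : AlgGrp.IsNormalHom i)
    (hj : AlgGrp.IsNormalHom j) [Surjective π.left] [Flat π.left] [QuasiCompact π.left] [Flat H.hom]
    [QuasiCompact H.hom] : ∃ p : M ⟶ P, IsMonHom p ∧ i ≫ p = π ∧ j ≫ p = 1 ∧ Surjective p.left ∧ Flat p.left ∧
      QuasiCompact p.left ∧ AlgGrp.IsKernel j p := by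
  obtain ⟨p, hp⟩ := exists_p (i := i) (j := j) hK hπ
  have := isMonHom_p hp hK hπ hi hj
  exact ⟨p, this, i_comp_p hp, j_comp_p hp, surjective_p hp, flat_p hp, quasiCompact_p hp, isKernel_p hp hK hπ⟩

end Groth.Agent.Sga3.H962.SecondIso
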